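import Mathlib
import Cfsg.Agent.Lib.LocalY.FrakL2

/-! Recognising `SL₂(F)` from its action on a natural module coordinatised by `F × F`. -/

set_option autoImplicit false

namespace Cfsg.Agent.Lib.TISub.SL2

open Subgroup Cfsg.Agent.Lib.LocalY.FrakL2
open scoped MatrixGroups

variable {G : Type*} [Group G] {F : Type*} [Field F]

/-- Data for the recognition: coordinates on `W`, and two root groups. -/
structure Recog (W Q₁ Q₂ : Subgroup G) (φ : F → F → G) : Prop where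
  add : ∀ x y x' y', φ (x + x') (y + y') = φ x y * φ x' y'
  inj : ∀ x y, φ x y = 1 → x = 0 ∧ y = 0
  surj : ∀ w ∈ W, ∃ x y, φ x y = w
  mem : ∀ x y, φ x y ∈ W
  q1 : ∀ p ∈ Q₁, ∃ a : F, ∀ x y, p * φ x y * p⁻¹ = φ (x + a * y) y
  q1' : ∀ a : F, ∃ p ∈ Q₁, ∀ x y, p * φ x y * p⁻¹ = φ (x + a * y) y
  q2 : ∀ r ∈ Q₂, ∃ b : F, ∀ x y, r * φ x y * r⁻¹ = φ x (y + b * x)
  q2' : ∀ b : F, ∃ r ∈ Q₂, ∀ x y, r * φ x y * r⁻¹ = φ x (y + b * x)

/-- `h` acts on `W` by the matrix `m`. -/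
def Acts (φ : F → F → G) (h : G) (m : SL(2, F)) : Prop :=
  ∀ x y, h * φ x y * h⁻¹ = φ (m.1 0 0 * x + m.1 0 1 * y) (m.1 1 0 * x + m.1 1 1 * y)

variable {φ : F → F → G}

theorem Acts.one : Acts φ (1 : G) (1 : SL(2, F)) := by
  intro x y
  simp

theorem Acts.mul {h h' : G} {m m' : SL(2, F)} (H : Acts φ h m) (H' : Acts φ h' m') :
    Acts φ (h * h') (m * m') := by
  intro x y
  have e : h * h' * φ x y * (h * h')⁻¹ = h * (h' * φ x y * h'⁻¹) * h⁻¹ := by group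
  rw [e, H', H]
  congr 1 <;> simp only [mul_00, mul_01, mul_10, mul_11] <;> ring

theorem Acts.inv {h : G} {m : SL(2, F)} (H : Acts φ h m) : Acts φ h⁻¹ m⁻¹ := by
  intro x y
  have e := H (m⁻¹.1 0 0 * x + m⁻¹.1 0 1 * y) (m⁻¹.1 1 0 * x + m⁻¹.1 1 1 * y)
  have hd := det_eq m
  have e1 : m.1 0 0 * (m⁻¹.1 0 0 * x + m⁻¹.1 0 1 * y) + m.1 0 1 * (m⁻¹.1 1 0 * x + m⁻¹.1 1 1 * y) = x := by
    simp only [inv_00, inv_01, inv_10, inv_11]
    linear_combination x * hd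
  have e2 : m.1 1 0 * (m⁻¹.1 0 0 * x + m⁻¹.1 0 1 * y) + m.1 1 1 * (m⁻¹.1 1 0 * x + m⁻¹.1 1 1 * y) = y := by
    simp only [inv_00, inv_01, inv_10, inv_11]
    linear_combination y * hd
  rw [e1, e2] at e
  rw [← e]
  group

variable {W Q₁ Q₂ : Subgroup G}

theorem Recog.inj' (R : Recog W Q₁ Q₂ φ) {x y x' y' : F} (h : φ x y = φ x' y') : x = x' ∧ y = y' := by
  have h1 : φ (x - x') (y - y') = 1 := by
    have h2 := R.add (x - x') (y - y') x' y'
    rw [sub_add_cancel, sub_add_cancel, h] at h2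
    exact (mul_eq_right.1 h2.symm)
  obtain ⟨h2, h3⟩ := R.inj _ _ h1
  exact ⟨sub_eq_zero.1 h2, sub_eq_zero.1 h3⟩

theorem Recog.unique (R : Recog W Q₁ Q₂ φ) {h : G} {m m' : SL(2, F)} (H : Acts φ h m)
    (H' : Acts φ h m') : m = m' := by
  have e1 := R.inj' ((H 1 0).symm.trans (H' 1 0))
  have e2 := R.inj' ((H 0 1).symm.trans (H' 0 1))
  simp only [mul_one, mul_zero, add_zero, zero_add] at e1 e2
  exact sl_ext e1.1 e2.1 e1.2 e2.2

theorem Recog.exists_acts (R : Recog W Q₁ Q₂ φ) {h : G} (hh : h ∈ Q₁ ⊔ Q₂) :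
    ∃ m : SL(2, F), Acts φ h m := by
  let K : Subgroup G :=
    { carrier := {h | ∃ m : SL(2, F), Acts φ h m}
      one_mem' := ⟨1, Acts.one⟩
      mul_mem' := fun ⟨m, hm⟩ ⟨m', hm'⟩ => ⟨m * m', hm.mul hm'⟩
      inv_mem' := fun ⟨m, hm⟩ => ⟨m⁻¹, hm.inv⟩ }
  have hle : Q₁ ⊔ Q₂ ≤ K := by
    refine sup_le ?_ ?_
    · intro p hp
      obtain ⟨a, ha⟩ := R.q1 p hp
      refine ⟨up a, fun x y => ?_⟩
      rw [ha]
      simp
    · intro r hr
      obtain ⟨b, hb⟩ := R.q2 r hr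
      refine ⟨lo b, fun x y => ?_⟩
      rw [hb]
      simp [add_comm]
  exact hle hh

/-- The action homomorphism. -/
noncomputable def Recog.psi (R : Recog W Q₁ Q₂ φ) : ↥(Q₁ ⊔ Q₂) →* SL(2, F) :=
  MonoidHom.mk' (fun h => (R.exists_acts h.2).choose) (by
    intro a c
    exact R.unique (R.exists_acts (a * c).2).choose_spec
      ((R.exists_acts a.2).choose_spec.mul (R.exists_acts c.2).choose_spec))

theorem Recog.psi_acts (R : Recog W Q₁ Q₂ φ) (h : ↥(Q₁ ⊔ Q₂)) : Acts φ h.1 (R.psi h) :=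
  (R.exists_acts h.2).choose_spec

theorem Recog.psi_surj (R : Recog W Q₁ Q₂ φ) : Function.Surjective R.psi := by
  have hup : ∀ a : F, up a ∈ R.psi.range := by
    intro a
    obtain ⟨p, hp, hpa⟩ := R.q1' a
    refine ⟨⟨p, (le_sup_left : Q₁ ≤ Q₁ ⊔ Q₂) hp⟩, R.unique (R.psi_acts _) fun x y => ?_⟩
    rw [hpa]; simp
  have hlo : ∀ b : F, lo b ∈ R.psi.range := by
    intro b
    obtain ⟨r, hr, hrb⟩ := R.q2' b
    refine ⟨⟨r, (le_sup_right : Q₂ ≤ Q₁ ⊔ Q₂) hr⟩, R.unique (R.psi_acts _) fun x y => ?_⟩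
    rw [hrb]; simp [add_comm]
  have hne : ∀ m : SL(2, F), m.1 1 0 ≠ 0 → m ∈ R.psi.range := by
    intro m hm
    rw [gauss m hm]
    exact R.psi.range.mul_mem (R.psi.range.mul_mem (hup _) (hlo _)) (hup _)
  intro m
  by_cases hm : m.1 1 0 = 0
  · have hd := det_eq m
    rw [hm, mul_zero, sub_zero] at hd
    have h0 : m.1 0 0 ≠ 0 := left_ne_zero_of_mul_eq_one hd
    have h1 : lo 1 * m ∈ R.psi.range := by
      apply hne
      simp [hm, h0]
    have h2 : m = (lo 1)⁻¹ * (lo 1 * m) := by group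
    rw [h2]
    exact R.psi.range.mul_mem (R.psi.range.inv_mem (hlo 1)) h1
  · exact hne m hm

theorem Recog.psi_ker (R : Recog W Q₁ Q₂ φ) :
    R.psi.ker = (centralizer (W : Set G)).subgroupOf (Q₁ ⊔ Q₂) := by
  ext h
  rw [MonoidHom.mem_ker, mem_subgroupOf, mem_centralizer_iff]
  constructor
  · intro hh w hw
    obtain ⟨x, y, rfl⟩ := R.surj w hw
    have := R.psi_acts h x y
    rw [hh] at this
    simp only [one_00, one_01, one_10, one_11, one_mul, zero_mul, add_zero, zero_add] at this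
    rw [mul_inv_eq_iff_eq_mul] at this
    exact this.symm
  · intro hh
    refine R.unique (R.psi_acts h) fun x y => ?_
    have := hh _ (R.mem x y)
    simp only [one_00, one_01, one_10, one_11, one_mul, zero_mul, add_zero, zero_add]
    rw [mul_inv_eq_iff_eq_mul]
    exact this.symm

theorem Recog.quot (R : Recog W Q₁ Q₂ φ)
    (hN : ((centralizer (W : Set G)).subgroupOf (Q₁ ⊔ Q₂)).Normal) :
    Nonempty (↥(Q₁ ⊔ Q₂) ⧸ (centralizer (W : Set G)).subgroupOf (Q₁ ⊔ Q₂) ≃* SL(2, F)) :=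
  ⟨(QuotientGroup.quotientMulEquivOfEq R.psi_ker.symm).trans
    (QuotientGroup.quotientKerEquivOfSurjective R.psi R.psi_surj)⟩

theorem Recog.transfer {F₁ : Type*} [Field F₁] (e : F₁ ≃+* F) (R : Recog W Q₁ Q₂ φ) :
    Recog W Q₁ Q₂ (fun x y => φ (e x) (e y)) where
  add x y x' y' := by simp only [map_add]; exact R.add _ _ _ _
  inj x y h := by
    obtain ⟨h1, h2⟩ := R.inj _ _ h
    exact ⟨(map_eq_zero_iff e e.injective).1 h1, (map_eq_zero_iff e e.injective).1 h2⟩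
  surj w hw := by
    obtain ⟨x, y, rfl⟩ := R.surj w hw
    exact ⟨e.symm x, e.symm y, by simp⟩
  mem x y := R.mem _ _
  q1 p hp := by
    obtain ⟨a, ha⟩ := R.q1 p hp
    exact ⟨e.symm a, fun x y => by simp [ha]⟩
  q1' a := by
    obtain ⟨p, hp, ha⟩ := R.q1' (e a)
    exact ⟨p, hp, fun x y => by simp [ha]⟩
  q2 p hp := by
    obtain ⟨a, ha⟩ := R.q2 p hp
    exact ⟨e.symm a, fun x y => by simp [ha]⟩
  q2' a := by
    obtain ⟨p, hp, ha⟩ := R.q2' (e a)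
    exact ⟨p, hp, fun x y => by simp [ha]⟩

theorem exists_small_field (F : Type*) [Field F] [Finite F] :
    ∃ (F₁ : Type) (_ : Field F₁) (_ : Fintype F₁), Nonempty (F₁ ≃+* F) := by
  let e : Fin (Nat.card F) ≃ F := (Finite.equivFin F).symm
  letI : Field (Fin (Nat.card F)) := e.field
  exact ⟨Fin (Nat.card F), inferInstance, inferInstance, ⟨e.ringEquiv⟩⟩

end Cfsg.Agent.Lib.TISub.SL2
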