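import Mathlib
import Cfsg.Agent.Lib.TISub.Struct
import Cfsg.Agent.Lib.TISub.Coord
import Cfsg.Agent.Lib.TISub.SL2

/-! Field coordinates on `V U`, from the commutator maps of `O₂(N(V))` and `O₂(N(U))`. -/

set_option autoImplicit false

namespace Cfsg.Agent.Lib.TISub.Frame

open Subgroup Cfsg Cfsg.Agent.Lib.PGroup.WeaklyClosed Cfsg.Agent.Lib.TISub.Basic
  Cfsg.Agent.Lib.TISub.Plane Cfsg.Agent.Lib.TISub.Sym Cfsg.Agent.Lib.TISub.Struct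
open scoped IsMulCommutative

universe u

variable {G : Type u} [Group G] [Finite G] {V U : Subgroup G}

section Elements

variable (P : Fr V U)
include P

theorem split {a a' b b' : G} (ha : a ∈ V) (ha' : a' ∈ V) (hb : b ∈ U) (hb' : b' ∈ U)
    (h : a * b = a' * b') : a = a' ∧ b = b' := by
  have h1 : a'⁻¹ * a = b' * b⁻¹ := by
    have e1 : a'⁻¹ * (a * b) * b⁻¹ = a'⁻¹ * a := by group
    have e2 : a'⁻¹ * (a' * b') * b⁻¹ = b' * b⁻¹ := by group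
    rw [← e1, h, e2]
  have h2 : a'⁻¹ * a = 1 :=
    P.inter (by rw [h1]; exact mul_mem hb' (inv_mem hb)) (mul_mem (inv_mem ha') ha)
  have h3 : a = a' := by
    rw [inv_mul_eq_one] at h2; exact h2.symm
  subst h3
  exact ⟨rfl, mul_left_cancel h⟩

theorem com_mul {p a b : G} (hp : p ∈ QQ V) (ha : a ∈ U) (hb : b ∈ U) :
    p * (a * b) * p⁻¹ * (a * b)⁻¹ = (p * a * p⁻¹ * a⁻¹) * (p * b * p⁻¹ * b⁻¹) := by
  have hd := P.comm_uv a ha _ (P.com hp hb)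
  calc p * (a * b) * p⁻¹ * (a * b)⁻¹
      = (p * a * p⁻¹ * a⁻¹) * (a * (p * b * p⁻¹ * b⁻¹)) * a⁻¹ := by group
    _ = (p * a * p⁻¹ * a⁻¹) * ((p * b * p⁻¹ * b⁻¹) * a) * a⁻¹ := by rw [hd]
    _ = _ := by group

theorem mul_com {p p' u : G} (hp : p ∈ QQ V) (hp' : p' ∈ QQ V) (hu : u ∈ U) :
    (p * p') * u * (p * p')⁻¹ * u⁻¹ = (p * u * p⁻¹ * u⁻¹) * (p' * u * p'⁻¹ * u⁻¹) := by
  have hc := P.com hp' hu
  have h1 := P.qc p hp _ hc
  have h2 := P.h.comm _ (P.com hp hu) _ hc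
  rw [h2]
  calc (p * p') * u * (p * p')⁻¹ * u⁻¹ = (p * (p' * u * p'⁻¹ * u⁻¹)) * u * p⁻¹ * u⁻¹ := by group
    _ = ((p' * u * p'⁻¹ * u⁻¹) * p) * u * p⁻¹ * u⁻¹ := by rw [h1]
    _ = _ := by group

/-- A non-trivial commutator map has an inverse. -/
theorem inv_pair {p u₁ : G} (hp : p ∈ QQ V) (hu₁ : u₁ ∈ U) (hne : p * u₁ * p⁻¹ * u₁⁻¹ ≠ 1) :
    ∃ r ∈ QQ U, (∀ u ∈ U, r * (p * u * p⁻¹ * u⁻¹) * r⁻¹ * (p * u * p⁻¹ * u⁻¹)⁻¹ = u) ∧
      (∀ v ∈ V, p * (r * v * r⁻¹ * v⁻¹) * p⁻¹ * (r * v * r⁻¹ * v⁻¹)⁻¹ = v) := by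
  set v₁ := p * u₁ * p⁻¹ * u₁⁻¹ with hv₁def
  have hv₁ : v₁ ∈ V := P.com hp hu₁
  have hu1 : u₁ ≠ 1 := by
    rintro rfl
    apply hne
    rw [hv₁def]; group
  obtain ⟨r, hr, hre⟩ := P.symm.surj hv₁ hne hu₁
  have hcu := P.comm_uv u₁ hu₁ v₁ hv₁
  have et1 : p * u₁ * p⁻¹ = v₁ * u₁ := by rw [hv₁def]; group
  have et2 : r * v₁ * r⁻¹ = u₁ * v₁ := by rw [← hre]; group
  have ht1 : v₁ * u₁ ≠ 1 := by
    rw [← et1]
    intro h0
    apply hu1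
    have e : u₁ = p⁻¹ * (p * u₁ * p⁻¹) * p := by group
    rw [e, h0]; group
  have hm1 : v₁ * u₁ ∈ cj p U := by
    rw [← et1]; exact conj_mem_cj hu₁
  have hm2 : v₁ * u₁ ∈ cj r V := by
    rw [← hcu, ← et2]; exact conj_mem_cj hv₁
  have hcc : cj p U = cj r V := CC.eq P.h (P.cu.cj p) ((CC.self V).cj r) hm1 hm2 ht1
  refine ⟨r, hr, ?_, ?_⟩
  · intro u hu
    have h1 : p * u * p⁻¹ ∈ cj r V := by
      rw [← hcc]; exact conj_mem_cj hu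
    have h2 : r⁻¹ * (p * u * p⁻¹) * r ∈ V := mem_cj.1 h1
    set v := r⁻¹ * (p * u * p⁻¹) * r with hvdef
    have h3 : r * v * r⁻¹ = p * u * p⁻¹ := by rw [hvdef]; group
    have hb : r * v * r⁻¹ * v⁻¹ ∈ U := P.symm.com hr h2
    have h4 : (p * u * p⁻¹ * u⁻¹) * u = v * (r * v * r⁻¹ * v⁻¹) := by
      rw [← P.comm_uv _ hb v h2, h3]
      have e : p * u * p⁻¹ * v⁻¹ * v = p * u * p⁻¹ := by group
      rw [e]; group
    obtain ⟨h5, h6⟩ := split P (P.com hp hu) h2 hu hb h4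
    rw [h5]
    exact h6.symm
  · intro v hv
    have h1 : r * v * r⁻¹ ∈ cj p U := by
      rw [hcc]; exact conj_mem_cj hv
    have h2 : p⁻¹ * (r * v * r⁻¹) * p ∈ U := mem_cj.1 h1
    set u := p⁻¹ * (r * v * r⁻¹) * p with hudef
    have h3 : p * u * p⁻¹ = r * v * r⁻¹ := by rw [hudef]; group
    have hb : r * v * r⁻¹ * v⁻¹ ∈ U := P.symm.com hr hv
    have h4 : (p * u * p⁻¹ * u⁻¹) * u = v * (r * v * r⁻¹ * v⁻¹) := by
      rw [← P.comm_uv _ hb v hv, h3]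
      group
    obtain ⟨h5, h6⟩ := split P (P.com hp h2) hv h2 hb h4
    rw [← h6]
    exact h5

/-- The swapping element. -/
theorem swap_elt {p₀ r₀ : G} (hp₀ : p₀ ∈ QQ V) (hr₀ : r₀ ∈ QQ U)
    (h1 : ∀ u ∈ U, r₀ * (p₀ * u * p₀⁻¹ * u⁻¹) * r₀⁻¹ * (p₀ * u * p₀⁻¹ * u⁻¹)⁻¹ = u)
    (h2 : ∀ v ∈ V, p₀ * (r₀ * v * r₀⁻¹ * v⁻¹) * p₀⁻¹ * (r₀ * v * r₀⁻¹ * v⁻¹)⁻¹ = v) :
    (∀ v ∈ V, (r₀ * p₀ * r₀) * v * (r₀ * p₀ * r₀)⁻¹ = r₀ * v * r₀⁻¹ * v⁻¹) ∧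
      (∀ u ∈ U, (r₀ * p₀ * r₀) * u * (r₀ * p₀ * r₀)⁻¹ = p₀ * u * p₀⁻¹ * u⁻¹) := by
  constructor
  · intro v hv
    set k := r₀ * v * r₀⁻¹ * v⁻¹ with hk
    have hkU : k ∈ U := P.symm.com hr₀ hv
    have e1 : r₀ * v * r₀⁻¹ = k * v := by rw [hk]; group
    have e2 : p₀ * v * p₀⁻¹ = v := by
      rw [P.qc p₀ hp₀ v hv]; group
    have e3 : p₀ * k * p₀⁻¹ = v * k := by
      have := h2 v hv
      rw [← hk] at this
      rw [← this]
      group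
    have e4 : r₀ * k * r₀⁻¹ = k := by
      rw [P.symm.qc r₀ hr₀ k hkU]; group
    have e5 : v * k * v = k := by
      rw [← P.comm_uv k hkU v hv, mul_assoc, P.h.sq v hv, mul_one]
    calc (r₀ * p₀ * r₀) * v * (r₀ * p₀ * r₀)⁻¹ = r₀ * (p₀ * (r₀ * v * r₀⁻¹) * p₀⁻¹) * r₀⁻¹ := by group
      _ = r₀ * ((p₀ * k * p₀⁻¹) * (p₀ * v * p₀⁻¹)) * r₀⁻¹ := by rw [e1]; group
      _ = r₀ * k * r₀⁻¹ := by rw [e2, e3, e5]
      _ = k := e4
  · intro u hu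
    set a := p₀ * u * p₀⁻¹ * u⁻¹ with ha
    have haV : a ∈ V := P.com hp₀ hu
    have e1 : p₀ * u * p₀⁻¹ = a * u := by rw [ha]; group
    have e2 : r₀ * u * r₀⁻¹ = u := by
      rw [P.symm.qc r₀ hr₀ u hu]; group
    have e3 : r₀ * a * r₀⁻¹ = u * a := by
      have := h1 u hu
      rw [← ha] at this
      rw [← this]
      group
    have e5 : u * a * u = a := by
      rw [P.comm_uv u hu a haV, mul_assoc, P.hU.sq u hu, mul_one]
    calc (r₀ * p₀ * r₀) * u * (r₀ * p₀ * r₀)⁻¹ = r₀ * (p₀ * (r₀ * u * r₀⁻¹) * p₀⁻¹) * r₀⁻¹ := by group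
      _ = r₀ * (a * u) * r₀⁻¹ := by rw [e2, e1]
      _ = (r₀ * a * r₀⁻¹) * (r₀ * u * r₀⁻¹) := by group
      _ = a := by rw [e2, e3, e5]

/-- The Hua-type closure `λ₀ κ λ₀ ∈ Λ`. -/
theorem h6_elt {p₀ r₀ r : G} (hp₀ : p₀ ∈ QQ V) (hr₀ : r₀ ∈ QQ U) (hr : r ∈ QQ U)
    (h1 : ∀ u ∈ U, r₀ * (p₀ * u * p₀⁻¹ * u⁻¹) * r₀⁻¹ * (p₀ * u * p₀⁻¹ * u⁻¹)⁻¹ = u)
    (h2 : ∀ v ∈ V, p₀ * (r₀ * v * r₀⁻¹ * v⁻¹) * p₀⁻¹ * (r₀ * v * r₀⁻¹ * v⁻¹)⁻¹ = v) :
    ∃ p' ∈ QQ V, ∀ u ∈ U, p' * u * p'⁻¹ * u⁻¹ =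
      p₀ * (r * (p₀ * u * p₀⁻¹ * u⁻¹) * r⁻¹ * (p₀ * u * p₀⁻¹ * u⁻¹)⁻¹) * p₀⁻¹ *
        (r * (p₀ * u * p₀⁻¹ * u⁻¹) * r⁻¹ * (p₀ * u * p₀⁻¹ * u⁻¹)⁻¹)⁻¹ := by
  obtain ⟨hn1, hn2⟩ := swap_elt P hp₀ hr₀ h1 h2
  set n := r₀ * p₀ * r₀ with hn
  have hcj : cj n U = V := by
    refine Subgroup.eq_of_le_of_card_ge ?_ ?_
    · rintro _ ⟨u, hu, rfl⟩
      change n * u * n⁻¹ ∈ V
      rw [hn2 u hu]
      exact P.com hp₀ hu
    · rw [card_cj, P.cu.card]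
  have hq : QQ V = cj n (QQ U) := by
    rw [← qq_cj, hcj]
  refine ⟨n * r * n⁻¹, ?_, ?_⟩
  · rw [hq]; exact conj_mem_cj hr
  · intro u hu
    set a := p₀ * u * p₀⁻¹ * u⁻¹ with ha
    have haV : a ∈ V := P.com hp₀ hu
    have e1 : n * a * n⁻¹ = u := by
      rw [hn1 a haV]
      exact h1 u hu
    have e2 : n⁻¹ * u * n = a := by
      rw [← e1]; group
    set b := r * a * r⁻¹ * a⁻¹ with hb
    have hbU : b ∈ U := P.symm.com hr haV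
    have e3 : r * a * r⁻¹ = b * a := by rw [hb]; group
    have e4 : n * b * n⁻¹ = p₀ * b * p₀⁻¹ * b⁻¹ := hn2 b hbU
    calc n * r * n⁻¹ * u * (n * r * n⁻¹)⁻¹ * u⁻¹
        = n * (r * (n⁻¹ * u * n) * r⁻¹) * n⁻¹ * u⁻¹ := by group
      _ = n * (b * a) * n⁻¹ * u⁻¹ := by rw [e2, e3]
      _ = (n * b * n⁻¹) * (n * a * n⁻¹) * u⁻¹ := by group
      _ = p₀ * b * p₀⁻¹ * b⁻¹ := by rw [e1, e4]; group

end Elements

section Add

variable {T : Subgroup G}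

/-- The value in `G` of an element of `Additive T`. -/
def vl (a : Additive T) : G := ((Additive.toMul a : T) : G)

theorem vl_mem (a : Additive T) : vl a ∈ T := (Additive.toMul a : T).2

/-- The element of `Additive T` with a given value. -/
def mk (x : G) (hx : x ∈ T) : Additive T := Additive.ofMul ⟨x, hx⟩

@[simp] theorem vl_mk (x : G) (hx : x ∈ T) : vl (mk x hx) = x := rfl

variable [IsMulCommutative T]

@[simp] theorem vl_zero : vl (0 : Additive T) = 1 := rfl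
@[simp] theorem vl_add (a b : Additive T) : vl (a + b) = vl a * vl b := rfl
@[simp] theorem vl_neg (a : Additive T) : vl (-a) = (vl a)⁻¹ := rfl

theorem vl_inj {a b : Additive T} (h : vl a = vl b) : a = b :=
  Additive.toMul.injective (Subtype.ext h)

end Add

section Maps

variable [IsMulCommutative V] [IsMulCommutative U]

/-- The commutator map `u ↦ [p,u]`. -/
noncomputable def lam (P : Fr V U) (p : G) (hp : p ∈ QQ V) : Additive U →+ Additive V where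
  toFun u := mk (p * vl u * p⁻¹ * (vl u)⁻¹) (P.com hp (vl_mem u))
  map_zero' := vl_inj (by simp)
  map_add' a b := vl_inj (by simpa using com_mul P hp (vl_mem a) (vl_mem b))

theorem lam_vl (P : Fr V U) (p : G) (hp : p ∈ QQ V) (u : Additive U) :
    vl (lam P p hp u) = p * vl u * p⁻¹ * (vl u)⁻¹ := rfl

/-- The group of commutator maps. -/
noncomputable def Lam (P : Fr V U) : AddSubgroup (Additive U →+ Additive V) where
  carrier := {l | ∃ p, ∃ hp : p ∈ QQ V, l = lam P p hp}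
  zero_mem' := ⟨1, one_mem _, AddMonoidHom.ext fun u => vl_inj (by rw [lam_vl]; simp)⟩
  add_mem' := by
    rintro _ _ ⟨p, hp, rfl⟩ ⟨p', hp', rfl⟩
    exact ⟨p * p', mul_mem hp hp', AddMonoidHom.ext fun u => vl_inj
      (by rw [lam_vl, mul_com P hp hp' (vl_mem u)]; rfl)⟩
  neg_mem' := by
    rintro _ ⟨p, hp, rfl⟩
    refine ⟨p⁻¹, inv_mem hp, AddMonoidHom.ext fun u => vl_inj ?_⟩
    have h1 := mul_com P (inv_mem hp) hp (vl_mem u)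
    rw [inv_mul_cancel] at h1
    have h2 : vl (lam P p⁻¹ (inv_mem hp) u) * vl (lam P p hp u) = 1 := by
      rw [lam_vl, lam_vl, ← h1]; group
    change (vl (lam P p hp u))⁻¹ = vl (lam P p⁻¹ (inv_mem hp) u)
    exact (eq_inv_of_mul_eq_one_left h2).symm

end Maps

/-- The coordinates. -/
theorem exists_coord (P : Fr V U) :
    ∃ (F : Type u) (_ : Field F) (_ : Finite F) (φ : F → F → G),
      SL2.Recog (V ⊔ U) (QQ V) (QQ U) φ ∧ Nat.card F = Nat.card V := by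
  classical
  haveI : IsMulCommutative V := ⟨⟨fun a b => Subtype.ext (P.h.comm _ a.2 _ b.2)⟩⟩
  haveI : IsMulCommutative U := ⟨⟨fun a b => Subtype.ext (P.hU.comm _ a.2 _ b.2)⟩⟩
  have h2 : ∀ v : Additive V, v + v = 0 := fun v => vl_inj (P.h.sq _ (vl_mem v))
  have htr : ∀ u : Additive U, u ≠ 0 → ∀ v : Additive V, ∃ l ∈ Lam P, l u = v := by
    intro u hu v
    have hu1 : vl u ≠ 1 := fun h => hu (vl_inj h)
    obtain ⟨p, hp, he⟩ := P.surj (vl_mem u) hu1 (vl_mem v)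
    exact ⟨lam P p hp, ⟨p, hp, rfl⟩, vl_inj he⟩
  have hiv : ∀ l ∈ Lam P, l ≠ 0 →
      ∃ k ∈ Lam P.symm, (∀ u, k (l u) = u) ∧ (∀ v, l (k v) = v) := by
    rintro _ ⟨p, hp, rfl⟩ hne
    obtain ⟨u₁, hu₁⟩ : ∃ u₁, lam P p hp u₁ ≠ 0 := by
      by_contra hc
      push Not at hc
      exact hne (AddMonoidHom.ext hc)
    have hne' : p * vl u₁ * p⁻¹ * (vl u₁)⁻¹ ≠ 1 := fun h => hu₁ (vl_inj h)
    obtain ⟨r, hr, h1, h2'⟩ := inv_pair P hp (vl_mem u₁) hne'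
    exact ⟨lam P.symm r hr, ⟨r, hr, rfl⟩, fun u => vl_inj (h1 _ (vl_mem u)),
      fun v => vl_inj (h2' _ (vl_mem v))⟩
  -- the base element
  obtain ⟨u₀, hu₀, hu₀1⟩ := P.exists_u
  obtain ⟨v₀, hv₀, hv₀1⟩ := P.exists_v
  obtain ⟨p₀, hp₀, he₀⟩ := P.surj hu₀ hu₀1 hv₀
  have hne₀ : p₀ * u₀ * p₀⁻¹ * u₀⁻¹ ≠ 1 := by rwa [he₀]
  obtain ⟨r₀, hr₀, hr₀1, hr₀2⟩ := inv_pair P hp₀ hu₀ hne₀
  let l₀ := lam P p₀ hp₀
  have hl₀0 : l₀ ≠ 0 := by
    intro h0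
    apply hv₀1
    have := congrArg (fun f : Additive U →+ Additive V => vl (f (mk u₀ hu₀))) h0
    simp only [l₀, lam_vl, vl_mk, he₀] at this
    exact this
  have h6 : ∀ k ∈ Lam P.symm, l₀.comp (k.comp l₀) ∈ Lam P := by
    rintro _ ⟨r, hr, rfl⟩
    obtain ⟨p', hp', hE⟩ := h6_elt P hp₀ hr₀ hr hr₀1 hr₀2
    exact ⟨p', hp', AddMonoidHom.ext fun u => vl_inj (hE _ (vl_mem u)).symm⟩
  obtain ⟨F, fF, finF, eV, eU, hA, hB, hC, hD⟩ :=
    Coord.coord h2 (Lam P) (Lam P.symm) htr hiv l₀ ⟨p₀, hp₀, rfl⟩ hl₀0 h6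
  -- the action formulas
  have act1 : ∀ (p : G) (hp : p ∈ QQ V) (a : F), (∀ y, lam P p hp (eU y) = eV (a * y)) →
      ∀ x y, p * (vl (eV x) * vl (eU y)) * p⁻¹ = vl (eV (x + a * y)) * vl (eU y) := by
    intro p hp a ha x y
    have h1 := P.qc p hp _ (vl_mem (eV x))
    have h3 : vl (eV (a * y)) = p * vl (eU y) * p⁻¹ * (vl (eU y))⁻¹ := by
      rw [← ha, lam_vl]
    rw [map_add, vl_add, h3]
    calc p * (vl (eV x) * vl (eU y)) * p⁻¹ = (p * vl (eV x)) * vl (eU y) * p⁻¹ := by group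
      _ = (vl (eV x) * p) * vl (eU y) * p⁻¹ := by rw [h1]
      _ = _ := by group
  have act2 : ∀ (r : G) (hr : r ∈ QQ U) (b : F), (∀ x, lam P.symm r hr (eV x) = eU (b * x)) →
      ∀ x y, r * (vl (eV x) * vl (eU y)) * r⁻¹ = vl (eV x) * vl (eU (y + b * x)) := by
    intro r hr b hb x y
    have h1 := P.symm.qc r hr _ (vl_mem (eU y))
    have h3 : vl (eU (b * x)) = r * vl (eV x) * r⁻¹ * (vl (eV x))⁻¹ := by
      rw [← hb, lam_vl]
    have h4 : vl (eU (b * x)) ∈ U := vl_mem _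
    have h5 := P.comm_uv _ h4 _ (vl_mem (eV x))
    have h6' := P.hU.comm _ (vl_mem (eU y)) _ h4
    have e1 : r * vl (eV x) * r⁻¹ = vl (eU (b * x)) * vl (eV x) := by rw [h3]; group
    have e2 : r * vl (eU y) * r⁻¹ = vl (eU y) := by rw [h1]; group
    rw [map_add, vl_add, h6']
    calc r * (vl (eV x) * vl (eU y)) * r⁻¹ = (r * vl (eV x) * r⁻¹) * (r * vl (eU y) * r⁻¹) := by group
      _ = vl (eU (b * x)) * vl (eV x) * vl (eU y) := by rw [e1, e2]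
      _ = vl (eV x) * vl (eU (b * x)) * vl (eU y) := by rw [h5]
      _ = _ := by group
  refine ⟨F, fF, finF, fun x y => vl (eV x) * vl (eU y), ?_, ?_⟩
  · refine
      { add := ?_
        inj := ?_
        surj := ?_
        mem := ?_
        q1 := ?_
        q1' := ?_
        q2 := ?_
        q2' := ?_ }
    · intro x y x' y'
      beta_reduce
      rw [map_add, map_add, vl_add, vl_add]
      have := P.comm_uv _ (vl_mem (eU y)) _ (vl_mem (eV x'))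
      calc vl (eV x) * vl (eV x') * (vl (eU y) * vl (eU y'))
          = vl (eV x) * (vl (eV x') * vl (eU y)) * vl (eU y') := by group
        _ = vl (eV x) * (vl (eU y) * vl (eV x')) * vl (eU y') := by rw [this]
        _ = _ := by group
    · intro x y h
      have h' : vl (eV x) * vl (eU y) = 1 * 1 := by rw [mul_one]; exact h
      obtain ⟨h3, h4⟩ := split P (vl_mem _) V.one_mem (vl_mem _) U.one_mem h'
      have h5 : eV x = 0 := vl_inj h3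
      have h6 : eU y = 0 := vl_inj h4
      exact ⟨(map_eq_zero_iff eV eV.injective).1 h5, (map_eq_zero_iff eU eU.injective).1 h6⟩
    · intro w hw
      obtain ⟨u, hu, v, hv, rfl⟩ := sup_form P.comm_uv hw
      refine ⟨eV.symm (mk v hv), eU.symm (mk u hu), ?_⟩
      beta_reduce
      rw [AddEquiv.apply_symm_apply, AddEquiv.apply_symm_apply, vl_mk, vl_mk]
      exact (P.comm_uv u hu v hv).symm
    · intro x y
      exact mul_mem ((le_sup_left : V ≤ V ⊔ U) (vl_mem _)) ((le_sup_right : U ≤ V ⊔ U) (vl_mem _))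
    · intro p hp
      obtain ⟨a, ha⟩ := hA _ (⟨p, hp, rfl⟩ : lam P p hp ∈ Lam P)
      exact ⟨a, act1 p hp a ha⟩
    · intro a
      obtain ⟨_, ⟨p, hp, rfl⟩, ha⟩ := hB a
      exact ⟨p, hp, act1 p hp a ha⟩
    · intro r hr
      obtain ⟨b, hb⟩ := hC _ (⟨r, hr, rfl⟩ : lam P.symm r hr ∈ Lam P.symm)
      exact ⟨b, act2 r hr b hb⟩
    · intro b
      obtain ⟨_, ⟨r, hr, rfl⟩, hb⟩ := hD b
      exact ⟨r, hr, act2 r hr b hb⟩
  · have h1 : Nat.card F = Nat.card (Additive V) := Nat.card_congr eV.toEquiv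
    rw [h1]
    exact Nat.card_congr Additive.toMul

end Cfsg.Agent.Lib.TISub.Frame
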